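import Cfsg.Agent.H613.KS.Props
import Cfsg.Agent.H527.KKL.B7

/-!
# S4577, B7: group theory of the minimal counterexample, `D ≅ 2^4` (helper527)
-/

set_option autoImplicit false

namespace Cfsg.Agent.H527.KS

open Cfsg Cfsg.Agent.H613.KS Subgroup
open Cfsg.Agent.H527.KKL (le_normalizer_of_comm split_inv comm_of_split)
open Cfsg.Agent.SignalizersComponents.Components

universe u

section

variable {G : Type u} [Group G] [Finite G] {D : Subgroup G} {y : G}

omit [Finite G] in
theorem map_conj_conj (K : Subgroup G) (g h : G) :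
    (K.map (MulAut.conj g).toMonoidHom).map (MulAut.conj h).toMonoidHom = K.map (MulAut.conj (h * g)).toMonoidHom := by
  rw [Subgroup.map_map]
  congr 1
  ext x
  simp [mul_assoc]

omit [Finite G] in
theorem map_conj_one (K : Subgroup G) : K.map (MulAut.conj (1 : G)).toMonoidHom = K := by
  ext x
  constructor
  · rintro ⟨k, hk, rfl⟩
    simpa using hk
  · intro hx
    exact ⟨x, hx, by simp⟩

omit [Finite G] in
/-- a 5-element which has a power of exponent prime to 5 in the stabilizer of `K` is in the stabilizer -/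
theorem stab_of_pow {K : Subgroup G} {m : ℕ} (hm : orderOf y = 5 ^ m) {k : ℕ} (hk0 : 0 < k) (hk : k < 5)
    (h : K = K.map (MulAut.conj (y ^ k)).toMonoidHom) : K.map (MulAut.conj y).toMonoidHom = K := by
  have hpow : ∀ i : ℕ, K.map (MulAut.conj ((y ^ k) ^ i)).toMonoidHom = K := by
    intro i
    induction i with
    | zero => rw [pow_zero, map_conj_one]
    | succ i ih =>
      rw [pow_succ', ← map_conj_conj, ih]
      exact h.symm
  have hcop : Nat.Coprime k (orderOf y) := by
    rw [hm]
    apply Nat.Coprime.pow_right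
    rw [Nat.coprime_comm, Nat.Prime.coprime_iff_not_dvd (by norm_num)]
    intro hd
    exact absurd (Nat.le_of_dvd hk0 hd) (by omega)
  obtain ⟨i, hi⟩ := exists_pow_eq_self_of_coprime hcop
  have h1 := hpow i
  rwa [hi] at h1

omit [Finite G] in
theorem norm_pow (hy : Five D y) (j : ℕ) (d : G) : y ^ j * d * (y ^ j)⁻¹ ∈ D ↔ d ∈ D := by
  induction j generalizing d with
  | zero => simp
  | succ j ih =>
    have h1 : y ^ (j + 1) * d * (y ^ (j + 1))⁻¹ = y ^ j * (y * d * y⁻¹) * (y ^ j)⁻¹ := by
      rw [pow_succ]; group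
    rw [h1, ih, hy.norm]

theorem not_le_center (h8 : E16 D) (hy : Five D y) {R : Subgroup G} (hR : R ≤ D) (hc : R ≤ center G) : R = ⊥ := by
  have hinv : ∀ A : Subgroup G, A ≤ center G → ∀ a ∈ A, y * a * y⁻¹ ∈ A := by
    intro A hA a ha
    rw [mem_center_iff.1 (hA ha) y, mul_inv_cancel_right]
    exact ha
  rcases hy.irr R hR (hinv R hc) with h | h
  · exact h
  · exfalso
    subst h
    have hne : ∃ d ∈ R, d ≠ 1 := by
      by_contra hcon
      push Not at hcon
      have h1 : R = ⊥ := (eq_bot_iff_forall R).2 hcon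
      have h9 := h8.card
      rw [h1] at h9
      simp at h9
    obtain ⟨d, hd, hd1⟩ := hne
    have hz : zpowers d ≤ R := by rw [zpowers_le]; exact hd
    rcases hy.irr (zpowers d) hz (hinv _ (hz.trans hc)) with h1 | h1
    · rw [zpowers_eq_bot] at h1
      exact hd1 h1
    · have h2 : Nat.card (zpowers d) ∣ 2 := by
        rw [Nat.card_zpowers]
        exact orderOf_dvd_of_pow_eq_one (by rw [pow_two, h8.inv d hd])
      rw [h1, h8.card] at h2
      have := Nat.le_of_dvd (by norm_num) h2
      omega

/-- normal 2-subgroups are trivial -/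
theorem normal_two_trivial (h8 : E16 D) (hy : Five D y)
    (hN : ∀ N : Subgroup G, N.Normal → N ≤ Subgroup.center G ∨ D ≤ N) (hDn : ¬ D.Normal)
    (hrad : ∀ N : Subgroup G, N.Normal → IsPGroup 2 N → N ≤ D) {R : Subgroup G} (hR : R.Normal) (h2 : IsPGroup 2 R) :
    R = ⊥ := by
  have h1 := hrad R hR h2
  rcases hN R hR with h | h
  · exact not_le_center h8 hy h1 h
  · exact absurd (le_antisymm h h1 ▸ hR) hDn

/-- **B7** -/
theorem B7 (D : Subgroup G) (h8 : E16 D) (y : G) (hy : Five D y)
    (hN : ∀ N : Subgroup G, N.Normal → N ≤ Subgroup.center G ∨ D ≤ N) (hDn : ¬ D.Normal)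
    (hrad : ∀ N : Subgroup G, N.Normal → IsPGroup 2 N → N ≤ D)
    (hfr : ∀ N : Subgroup G, N.Normal → D ≤ N → ∀ g : G, ∃ n ∈ N, ∀ d ∈ D, n * (g * d * g⁻¹) * n⁻¹ ∈ D)
    (hx : ∀ N : Subgroup G, N.Normal → D ≤ N → ∃ e ∈ N, Odd (orderOf e) ∧ (∀ d ∈ D, d * e = e * d) ∧
      ∀ Q : Subgroup G, Q ≤ N → IsPGroup 2 Q → (∀ q ∈ Q, q * e = e * q) →
        ∃ c ∈ N, c * e = e * c ∧ ∀ q ∈ Q, c * q * c⁻¹ ∈ D) :
    ∃ K : Subgroup G, K.Normal ∧ IsQuasisimple ↥K ∧ D ≤ K ∧ Odd (Nat.card ↥(Subgroup.center ↥K)) ∧
      Subgroup.centralizer (K : Set G) ≤ Subgroup.center G := by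
  have : Fact (Nat.Prime 2) := ⟨Nat.prime_two⟩
  have hD2 : IsPGroup 2 D := by
    rintro ⟨d, hd⟩
    refine ⟨1, ?_⟩
    apply Subtype.ext
    have := h8.inv d hd
    simp [pow_two, this]
  have hDne : ∃ d ∈ D, d ≠ 1 := by
    by_contra hcon
    push Not at hcon
    have : D = ⊥ := by
      rw [eq_bot_iff]
      intro d hd
      exact hcon d hd
    have h9 := h8.card
    rw [this] at h9
    simp at h9
  obtain ⟨d₀, hd₀, hd₀1⟩ := hDne
  -- `O_2(G) = 1`
  have hO2 : pCore 2 G = ⊥ := normal_two_trivial h8 hy hN hDn hrad (Cfsg.Agent.Lib.Cores.pCore_normal 2)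
    (Cfsg.Agent.Lib.Cores.pCore_isPGroup 2)
  -- 2-elements of the Fitting subgroup are trivial
  have hF : ∀ z ∈ fittingSubgroup G, z * z = 1 → z = 1 := by
    intro z hz hz2
    have h1 : z ∈ pCore 2 G := Cfsg.Agent.Lib.GenFitting.mem_pCore_of_mem_fitting (k := 1) hz
      (by rw [pow_one, pow_two, hz2])
    rw [hO2] at h1
    exact h1
  have hFn : (fittingSubgroup G).Normal := Cfsg.Agent.Lib.Cores.fittingSubgroup_normal
  have hLn : (layer G).Normal := layer_normal G
  have hFZ : fittingSubgroup G ≤ center G := by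
    rcases hN _ hFn with h | h
    · exact h
    · exact absurd (hF d₀ (h hd₀) (h8.inv d₀ hd₀)) hd₀1
  -- the layer is not trivial
  have hE : ∃ K : Subgroup G, IsComponent K := by
    by_contra hcon
    push Not at hcon
    have hl : layer G = ⊥ := by
      rw [eq_bot_iff, layer_le_iff]
      intro K hK
      exact absurd hK (hcon K)
    have h1 := Cfsg.Agent.Lib.GenFitting.centralizer_genFitting_le (G := G)
    rw [Cfsg.Agent.Lib.GenFitting.genFitting_def, hl, bot_sup_eq] at h1
    have h2 : d₀ ∈ fittingSubgroup G := by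
      apply h1
      rw [mem_centralizer_iff]
      intro f hf
      exact (mem_center_iff.1 (hFZ hf) d₀).symm
    exact hd₀1 (hF d₀ h2 (h8.inv d₀ hd₀))
  have hDE : D ≤ layer G := by
    rcases hN _ hLn with h | h
    · exfalso
      obtain ⟨K, hK⟩ := hE
      apply quasisimple_not_isMulCommutative hK.2
      refine ⟨⟨?_⟩⟩
      rintro ⟨a, ha⟩ ⟨b, hb⟩
      apply Subtype.ext
      exact (mem_center_iff.1 (h (component_le_layer hK hb)) a)
    · exact h
  -- the centre of the layer
  have hZL : ∀ z ∈ layer G, z ∈ centralizer (layer G : Set G) → z * z = 1 → z = 1 := by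
    intro z hz1 hz2 hz3
    have hn : (layer G ⊓ centralizer (layer G : Set G)).Normal := inferInstance
    have hnil : Group.IsNilpotent (layer G ⊓ centralizer (layer G : Set G) : Subgroup G) := by
      have hcomm : IsMulCommutative (layer G ⊓ centralizer (layer G : Set G) : Subgroup G) := by
        refine ⟨⟨?_⟩⟩
        rintro ⟨a, ha⟩ ⟨b, hb⟩
        apply Subtype.ext
        exact mem_centralizer_iff.1 hb.2 a ha.1
      let _ : CommGroup (layer G ⊓ centralizer (layer G : Set G) : Subgroup G) :=
        { mul_comm := fun a b => hcomm.1.1 a b }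
      exact CommGroup.isNilpotent
    have h1 : z ∈ fittingSubgroup G := (le_sSup (show _ ∈ {N : Subgroup G | N.Normal ∧ Group.IsNilpotent N} from ⟨hn, hnil⟩))
      (show z ∈ layer G ⊓ centralizer (layer G : Set G) from ⟨hz1, hz2⟩)
    exact hF z h1 hz3
  -- a component and its centralizer in the layer
  have hsup : ∀ K : Subgroup G, IsComponent K → layer G ≤ K ⊔ (layer G ⊓ centralizer (K : Set G)) := by
    intro K hK
    rw [layer_le_iff]
    intro L hL
    by_cases h : L = K
    · rw [h]; exact le_sup_left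
    · exact le_sup_of_le_right (le_inf (component_le_layer hL) (component_le_centralizer_of_ne hL hK h))
  have hcommK : ∀ K : Subgroup G, ∀ k ∈ K, ∀ l ∈ layer G ⊓ centralizer (K : Set G), k * l = l * k := by
    intro K k hk l hl
    exact mem_centralizer_iff.1 hl.2 k hk
  have hoddK : ∀ K : Subgroup G, IsComponent K → ∀ z ∈ K, z ∈ layer G ⊓ centralizer (K : Set G) → z * z = 1 → z = 1 := by
    intro K hK z hzK hzL hz2
    refine hZL z hzL.1 ?_ hz2
    rw [mem_centralizer_iff]
    intro l hl
    have h1 : layer G ≤ centralizer ({z} : Set G) := by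
      refine (hsup K hK).trans (sup_le ?_ ?_)
      · intro k hk
        rw [mem_centralizer_singleton_iff]
        exact hcommK K k hk z hzL
      · intro k hk
        rw [mem_centralizer_singleton_iff]
        exact (hcommK K z hzK k hk).symm
    exact mem_centralizer_singleton_iff.1 (h1 hl)
  obtain ⟨e, heE, heo, heD, heQ⟩ := hx _ hLn hDE
  -- the parts of elements of `D`
  have hparts : ∀ K : Subgroup G, IsComponent K → ∀ d ∈ D, ∃ k ∈ K, ∃ l ∈ layer G ⊓ centralizer (K : Set G),
      k * l = d ∧ k ∈ D ∧ l ∈ D := by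
    intro K hK d hd
    obtain ⟨k, hk, l, hl, hkl, hk2, hl2⟩ := split_inv (hcommK K) (hoddK K hK) (hsup K hK (hDE hd)) (h8.inv d hd)
    have hkD : k ∈ D := by
      have hke : k * e = e * k := comm_of_split (hcommK K) (hoddK K hK) hk hl hk2 (hsup K hK heE)
        (by rw [hkl]; exact heD d hd)
      have hkD : ∀ d' ∈ D, k * d' = d' * k := by
        intro d' hd'
        refine comm_of_split (hcommK K) (hoddK K hK) hk hl hk2 (hsup K hK (hDE hd')) ?_
        rw [hkl]
        -- `D` is abelian
        have h1 := h8.inv _ (D.mul_mem hd hd')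
        have h2 := h8.inv _ hd
        have h3 := h8.inv _ hd'
        have h4 : d⁻¹ = d := inv_eq_of_mul_eq_one_left h2
        have h5 : d'⁻¹ = d' := inv_eq_of_mul_eq_one_left h3
        have h6 : (d * d')⁻¹ = d * d' := inv_eq_of_mul_eq_one_left h1
        rw [mul_inv_rev, h4, h5] at h6
        exact h6.symm
      have hz2 : IsPGroup 2 (zpowers k) := by
        refine IsPGroup.of_card_dvd_pow (n := 1) ?_
        rw [Nat.card_zpowers, pow_one]
        exact orderOf_dvd_of_pow_eq_one (by rw [pow_two, hk2])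
      have hnorm : zpowers k ≤ normalizer (D : Set G) := by
        rw [zpowers_le, mem_normalizer_iff]
        intro d'
        constructor
        · intro hd'
          rw [hkD d' hd', mul_inv_cancel_right]
          exact hd'
        · intro hd'
          have h1 := hkD _ hd'
          have h4 : k * (k * d' * k⁻¹) = k * d' := by rw [h1, inv_mul_cancel_right]
          rw [mul_left_cancel h4] at hd'
          exact hd'
      have hQ2 : IsPGroup 2 (zpowers k ⊔ D : Subgroup G) := hz2.to_sup_of_normal_right' hD2 hnorm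
      obtain ⟨c, hcE, hce, hcQ⟩ := heQ (zpowers k ⊔ D) (sup_le (by rw [zpowers_le]; exact component_le_layer hK hk) hDE)
        hQ2 (by
          have h1 : (zpowers k ⊔ D : Subgroup G) ≤ centralizer ({e} : Set G) := by
            refine sup_le ?_ ?_
            · rw [zpowers_le, mem_centralizer_singleton_iff]
              exact hke
            · intro d' hd'
              rw [mem_centralizer_singleton_iff]
              exact heD d' hd'
          intro q hq
          exact mem_centralizer_singleton_iff.1 (h1 hq))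
      have hle : D ≤ (zpowers k ⊔ D : Subgroup G) := le_sup_right
      have hmap : (zpowers k ⊔ D : Subgroup G).map (MulAut.conj c).toMonoidHom ≤ D := by
        rintro _ ⟨q, hq, rfl⟩
        exact hcQ q hq
      have hcard : Nat.card (zpowers k ⊔ D : Subgroup G) ≤ Nat.card D := by
        have h1 : Nat.card ((zpowers k ⊔ D : Subgroup G).map (MulAut.conj c).toMonoidHom) =
            Nat.card (zpowers k ⊔ D : Subgroup G) :=
          Subgroup.card_map_of_injective (MulAut.conj c).injective
        rw [← h1]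
        exact Nat.card_le_card_of_injective _ (inclusion_injective hmap)
      have heq : D = (zpowers k ⊔ D : Subgroup G) := eq_of_le_of_card_ge hle hcard
      rw [heq]
      exact (le_sup_left : zpowers k ≤ zpowers k ⊔ D) (mem_zpowers k)
    refine ⟨k, hk, l, hl, hkl, hkD, ?_⟩
    have : l = k⁻¹ * d := by rw [← hkl, inv_mul_cancel_left]
    rw [this]
    exact D.mul_mem (D.inv_mem hkD) hd
  -- a component meeting `D`
  have hex : ∃ K : Subgroup G, IsComponent K ∧ ∃ a ∈ D, a ∈ K ∧ a ≠ 1 := by
    by_contra hcon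
    push Not at hcon
    apply hd₀1
    refine hZL d₀ (hDE hd₀) ?_ (h8.inv d₀ hd₀)
    rw [mem_centralizer_iff]
    have h1 : layer G ≤ centralizer ({d₀} : Set G) := by
      rw [layer_le_iff]
      intro K hK
      obtain ⟨k, hk, l, hl, hkl, hkD, hlD⟩ := hparts K hK d₀ hd₀
      have hk1 : k = 1 := hcon K hK k hkD hk
      rw [hk1, one_mul] at hkl
      intro x hx
      rw [mem_centralizer_singleton_iff, ← hkl]
      exact hcommK K x hx l hl
    intro l hl
    exact mem_centralizer_singleton_iff.1 (h1 hl)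
  obtain ⟨K, hK, a, haD, haK, ha1⟩ := hex
  have ha2 := h8.inv a haD
  have hyk : ∀ j : ℕ, IsComponent (K.map (MulAut.conj (y ^ j)).toMonoidHom) := fun j => isComponent_conj _ hK
  have hyD : ∀ (j : ℕ) (d : G), y ^ j * d * (y ^ j)⁻¹ ∈ D ↔ d ∈ D := fun j => norm_pow hy j
  -- `y` normalises `K`
  have hKy : K.map (MulAut.conj y).toMonoidHom = K := by
    by_contra hne
    have hdist : ∀ i j : ℕ, i < j → j < 5 →
        K.map (MulAut.conj (y ^ i)).toMonoidHom ≠ K.map (MulAut.conj (y ^ j)).toMonoidHom := by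
      intro i j hij hj5 heq
      apply hne
      obtain ⟨m, hm⟩ := hy.five
      refine stab_of_pow hm (k := j - i) (by omega) (by omega) ?_
      have h1 : (K.map (MulAut.conj (y ^ i)).toMonoidHom).map (MulAut.conj (y ^ i)⁻¹).toMonoidHom =
          (K.map (MulAut.conj (y ^ j)).toMonoidHom).map (MulAut.conj (y ^ i)⁻¹).toMonoidHom := by rw [heq]
      rw [map_conj_conj, map_conj_conj, inv_mul_cancel, map_conj_one] at h1
      have h2 : (y ^ i)⁻¹ * y ^ j = y ^ (j - i) := by
        rw [inv_mul_eq_iff_eq_mul, ← pow_add]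
        congr 1
        omega
      rwa [h2] at h1
    -- the chain
    have hchain : ∀ i : ℕ, i ≤ 5 → ∃ M : Subgroup G, M ≤ D ∧ 2 ^ i * Nat.card M ≤ 16 ∧
        ∀ x ∈ D, (∀ j < i, x ∈ centralizer ((K.map (MulAut.conj (y ^ j)).toMonoidHom : Subgroup G) : Set G)) → x ∈ M := by
      intro i
      induction i with
      | zero => exact fun _ => ⟨D, le_refl D, by rw [pow_zero, one_mul, h8.card], fun x hx _ => hx⟩
      | succ i ih =>
        intro hi
        obtain ⟨M, hMD, hMc, hM⟩ := ih (by omega)
        set Ki := K.map (MulAut.conj (y ^ i)).toMonoidHom with hKi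
        refine ⟨M ⊓ centralizer (Ki : Set G), inf_le_left.trans hMD, ?_, fun x hx hxj => ⟨hM x hx fun j hj =>
          hxj j (by omega), hxj i (by omega)⟩⟩
        have hai : y ^ i * a * (y ^ i)⁻¹ ∈ Ki := ⟨a, haK, rfl⟩
        have haiD : y ^ i * a * (y ^ i)⁻¹ ∈ D := (hyD i a).2 haD
        have hai1 : y ^ i * a * (y ^ i)⁻¹ ≠ 1 := by
          intro h
          apply ha1
          have h6 : a = (y ^ i)⁻¹ * (y ^ i * a * (y ^ i)⁻¹) * y ^ i := by group
          rw [h6, h]; group
        have haiM : y ^ i * a * (y ^ i)⁻¹ ∈ M := by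
          refine hM _ haiD fun j hj => ?_
          exact component_le_centralizer_of_ne (hyk i) (hyk j) (Ne.symm (hdist j i hj (by omega))) hai
        have hainot : y ^ i * a * (y ^ i)⁻¹ ∉ centralizer (Ki : Set G) := by
          intro h
          exact hai1 (hoddK Ki (hyk i) _ hai ⟨hDE haiD, h⟩ (h8.inv _ haiD))
        have hlt : M ⊓ centralizer (Ki : Set G) < M := by
          refine lt_of_le_of_ne inf_le_left fun h => hainot ?_
          have h1 : y ^ i * a * (y ^ i)⁻¹ ∈ M ⊓ centralizer (Ki : Set G) := by rw [h]; exact haiM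
          exact h1.2
        have hc2 : 2 * Nat.card ↥(M ⊓ centralizer (Ki : Set G)) ≤ Nat.card M := by
          have h1 : Nat.card ↥(M ⊓ centralizer (Ki : Set G)) ∣ Nat.card M := card_dvd_of_le inf_le_left
          obtain ⟨k, hk⟩ := h1
          have hpos : 0 < Nat.card ↥(M ⊓ centralizer (Ki : Set G)) := Nat.card_pos
          have hk0 : k ≠ 0 := by
            rintro rfl
            rw [mul_zero] at hk
            have : 0 < Nat.card M := Nat.card_pos
            omega
          have hk1 : k ≠ 1 := by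
            rintro rfl
            rw [mul_one] at hk
            exact hlt.ne (eq_of_le_of_card_ge inf_le_left hk.le)
          rw [hk, mul_comm]
          exact Nat.mul_le_mul_left _ (by omega)
        calc 2 ^ (i + 1) * Nat.card ↥(M ⊓ centralizer (Ki : Set G))
            = 2 ^ i * (2 * Nat.card ↥(M ⊓ centralizer (Ki : Set G))) := by ring
          _ ≤ 2 ^ i * Nat.card M := Nat.mul_le_mul_left _ hc2
          _ ≤ 16 := hMc
    obtain ⟨M, -, hMc, -⟩ := hchain 5 le_rfl
    have : 0 < Nat.card M := Nat.card_pos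
    omega
  have hDK : D ≤ K := by
    have hinv : ∀ b ∈ D ⊓ K, y * b * y⁻¹ ∈ D ⊓ K := by
      intro b hb
      refine ⟨(hy.norm b).2 hb.1, ?_⟩
      have h1 : y * b * y⁻¹ ∈ K.map (MulAut.conj y).toMonoidHom := ⟨b, hb.2, rfl⟩
      rwa [hKy] at h1
    rcases hy.irr (D ⊓ K) inf_le_left hinv with h | h
    · exfalso
      have h1 : a ∈ D ⊓ K := ⟨haD, haK⟩
      rw [h, mem_bot] at h1
      exact ha1 h1
    · rw [← h]
      exact inf_le_right
  -- `K` is normal
  have hKn : K.Normal := by
    refine ⟨fun k hk g => ?_⟩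
    have hg : K.map (MulAut.conj g).toMonoidHom = K := by
      by_contra hne
      obtain ⟨n, hn, hnD⟩ := hfr _ hLn hDE g
      have h1 : g * d₀ * g⁻¹ ∈ K.map (MulAut.conj g).toMonoidHom := ⟨d₀, hDK hd₀, rfl⟩
      have h2 : g * d₀ * g⁻¹ ∈ K := by
        have h3 := hDK (hnD d₀ hd₀)
        have h4 := layer_le_normalizer_component hK hn
        exact (mem_normalizer_iff.1 h4 _).2 h3
      have h3 := component_le_centralizer_of_ne (isComponent_conj g hK) hK hne h1
      have h4 := component_le_layer (isComponent_conj g hK) h1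
      have h5 : g * d₀ * g⁻¹ = 1 := hoddK K hK _ h2 ⟨h4, h3⟩ (by
        have := h8.inv d₀ hd₀
        calc g * d₀ * g⁻¹ * (g * d₀ * g⁻¹) = g * (d₀ * d₀) * g⁻¹ := by group
          _ = 1 := by rw [this]; group)
      apply hd₀1
      have h6 : d₀ = g⁻¹ * (g * d₀ * g⁻¹) * g := by group
      rw [h6, h5]
      group
    rw [← hg]
    exact ⟨k, hk, rfl⟩
  refine ⟨K, hKn, hK.2, hDK, ?_, ?_⟩
  · rw [← Nat.not_even_iff_odd]
    intro hev
    obtain ⟨z, hz⟩ := exists_prime_orderOf_dvd_card' 2 (even_iff_two_dvd.1 hev)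
    have hz2 : z * z = 1 := by
      rw [← pow_two, ← hz, pow_orderOf_eq_one]
    have hz3 : (((z : K) : G)) = 1 := by
      have hcen : (((z : K) : G)) ∈ centralizer (K : Set G) := by
        rw [mem_centralizer_iff]
        intro k hk
        have h1 := mem_center_iff.1 z.2 ⟨k, hk⟩
        exact congrArg Subtype.val h1
      refine hoddK K hK _ (z : K).2 ⟨component_le_layer hK (z : K).2, hcen⟩ ?_
      · have h1 := congrArg (fun w : center K => ((w : K) : G)) hz2
        simpa using h1
    have hz4 : z = 1 := by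
      apply Subtype.ext
      apply Subtype.ext
      exact hz3
    rw [hz4, orderOf_one] at hz
    omega
  · rcases hN (centralizer (K : Set G)) inferInstance with h | h
    · exact h
    · exfalso
      apply hd₀1
      exact hoddK K hK d₀ (hDK hd₀) ⟨hDE hd₀, h hd₀⟩ (h8.inv d₀ hd₀)

end

theorem b7 : Cfsg.Agent.H613.KS.Props.PB7.{u} := by
  intro G _ _ D h8 y hy hN hDn hrad hfr hx
  exact B7 D h8 y hy hN hDn hrad hfr hx

end Cfsg.Agent.H527.KS
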